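import Groth.Agent.HomogPLib.Pts
import Groth.Agent.WeilKerLib.Pow
import Groth.Agent.WeilPtsLib.Smooth
import Groth.Agent.ObsLib.QuasiAffine
import Groth.Agent.GrpQuotLib.Descend
import Groth.Agent.GrpQuotLib.Orbit
import Groth.Prelude.Def_AlgGrp

/-!
# Homogeneous spaces of affine groups of prime power exponent are affine
-/

set_option autoImplicit false
set_option backward.isDefEq.respectTransparency false
universe u

open CategoryTheory CategoryTheory.Limits AlgebraicGeometry MonoidalCategory CartesianMonoidalCategory MonObj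
open WeilPtsLib WeilKerLib Groth.Agent
open scoped TensorProduct

noncomputable section

namespace HomogPLib

attribute [-instance] CategoryTheory.Hom.commGroup

variable {Ω : Type u} [Field Ω]

local notation "pt₀" => specOver Ω Ω

theorem pt₀_hom : (pt₀).hom = 𝟙 _ := by
  show Spec.map (CommRingCat.ofHom (algebraMap Ω Ω)) = _
  rw [Algebra.algebraMap_self]
  exact Spec.map_id _

/-- The image of a rational point. -/
abbrev img {X : Over (Spec (CommRingCat.of Ω))} (u : pt₀ ⟶ X) : X.left := u.left (IsLocalRing.closedPoint Ω)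

variable [IsAlgClosed Ω]

theorem exists_pt {X : Over (Spec (CommRingCat.of Ω))} [LocallyOfFiniteType X.hom] {x : X.left}
    (hx : x ∈ closedPoints X.left) : ∃ u : pt₀ ⟶ X, img u = x :=
  ⟨Over.homMk (pointOfClosedPoint X.hom x hx) (by rw [pointOfClosedPoint_comp, pt₀_hom]; rfl),
    congrArg Subtype.val ((pointEquivClosedPoint X.hom).apply_symm_apply ⟨x, hx⟩)⟩

theorem img_mem_closedPoints {X : Over (Spec (CommRingCat.of Ω))} [LocallyOfFiniteType X.hom] (u : pt₀ ⟶ X) :
    img u ∈ closedPoints X.left :=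
  ((pointEquivClosedPoint X.hom) ⟨u.left, (Over.w u).trans pt₀_hom⟩).2

theorem ext_img {X : Over (Spec (CommRingCat.of Ω))} [LocallyOfFiniteType X.hom] {u v : pt₀ ⟶ X}
    (h : img u = img v) : u = v :=
  Over.OverMorphism.ext (congrArg Subtype.val ((pointEquivClosedPoint X.hom).injective
    (a₁ := ⟨u.left, (Over.w u).trans pt₀_hom⟩) (a₂ := ⟨v.left, (Over.w v).trans pt₀_hom⟩) (Subtype.ext h)))

/-- A scheme with at most one point is affine. -/
theorem isAffine_of_subsingleton (X : Scheme.{u}) [Subsingleton X] : IsAffine X := by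
  rcases isEmpty_or_nonempty X with h | ⟨⟨x⟩⟩
  · infer_instance
  · obtain ⟨U, hU, hx, -⟩ := exists_isAffineOpen_mem_and_subset (show x ∈ (⊤ : X.Opens) from trivial)
    have : U = ⊤ := top_le_iff.1 fun y _ => by rwa [Subsingleton.elim y x]
    rw [this] at hU
    haveI : IsAffine (⊤ : X.Opens).toScheme := hU
    exact IsAffine.of_isIso X.topIso.inv

theorem finiteType_of_lft {A : Type u} [CommRing A] [Algebra Ω A] (h : LocallyOfFiniteType (specOver Ω A).hom) :
    Algebra.FiniteType Ω A :=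
  RingHom.finiteType_algebraMap.mp ((HasRingHomProperty.Spec_iff (P := @LocallyOfFiniteType)).mp h)

omit [IsAlgClosed Ω] in
theorem specHom_pt_ext {A : Type u} [CommRing A] [Algebra Ω A] {f g : pt₀ ⟶ specOver Ω A}
    (h : f = g) {a b : A →ₐ[Ω] Ω} (ha : f = specHom Ω a) (hb : g = specHom Ω b) : a = b :=
  AlgHom.coe_ringHom_injective (congrArg CommRingCat.Hom.hom
    (Spec.map_injective (congrArg CommaMorphism.left (ha.symm.trans (h.trans hb)))))

/-- Maps killed by all points differ by a nilpotent. -/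
theorem isNilpotent_of_forall {C : Type u} [CommRing C] [Algebra Ω C] [Algebra.FiniteType Ω C] {z : C}
    (h : ∀ c : C →ₐ[Ω] Ω, c z = 0) : IsNilpotent z := by
  haveI : IsJacobsonRing C := isJacobsonRing_of_finiteType (A := Ω)
  rw [← mem_nilradical, nilradical_eq_sInf, Submodule.mem_sInf]
  intro P hP
  have hP' : Ideal.IsPrime P := hP
  rw [← IsJacobsonRing.out ‹IsJacobsonRing C› (Ideal.IsPrime.isRadical hP'), Ideal.jacobson, Submodule.mem_sInf]
  intro m hm
  haveI : Ideal.IsMaximal m := hm.2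
  letI : Field (C ⧸ m) := Ideal.Quotient.field m
  haveI : Module.Finite Ω (C ⧸ m) := finite_of_finite_type_of_isJacobsonRing Ω (C ⧸ m)
  have hb : Function.Bijective (Algebra.ofId Ω (C ⧸ m)) := IsAlgClosed.algebraMap_bijective_of_isIntegral
  have := h ((AlgEquiv.ofBijective _ hb).symm.toAlgHom.comp (Ideal.Quotient.mkₐ Ω m))
  rw [← Ideal.Quotient.eq_zero_iff_mem]
  simpa using this

/-- An affine group of prime power exponent has affine homogeneous spaces. -/
theorem isAffine_homogeneous {K X : Over (Spec (CommRingCat.of Ω))} [GrpObj K] [IsAffine K.left]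
    [LocallyOfFiniteType K.hom] [LocallyOfFiniteType X.hom] [IsSeparated X.hom]
    (act : AlgGrp.Action K X) (o : 𝟙_ _ ⟶ X) [Flat (act.orbitMap o).left] [Surjective (act.orbitMap o).left]
    (p N : ℕ) [ExpChar Ω p] (hK : ∀ g : pt₀ ⟶ K, g ^ (p ^ N) = 1) : IsAffine X.left := by
  classical
  let P := act.orbitMap o
  haveI : Flat P.left := ‹_›
  haveI : Surjective P.left := ‹_›
  haveI : JacobsonSpace K.left := LocallyOfFiniteType.jacobsonSpace K.hom
  haveI : JacobsonSpace X.left := LocallyOfFiniteType.jacobsonSpace X.hom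
  rcases expChar_is_prime_or_one Ω p with hp | rfl
  swap
  · -- characteristic zero: a single point
    have h1 : ∀ x ∈ closedPoints K.left, x = img (1 : pt₀ ⟶ K) := fun x hx => by
      obtain ⟨u, rfl⟩ := exists_pt hx
      have := hK u
      rw [one_pow, pow_one] at this
      rw [this]
    have hcl : ∀ x : K.left, x = img (1 : pt₀ ⟶ K) := fun x => by
      by_contra hne
      have hc : IsClosed ({img (1 : pt₀ ⟶ K)} : Set K.left) := img_mem_closedPoints _
      obtain ⟨y, hy, hy'⟩ := nonempty_inter_closedPoints (Z := {img (1 : pt₀ ⟶ K)}ᶜ) ⟨x, hne⟩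
        hc.isOpen_compl.isLocallyClosed
      exact hy (h1 y hy')
    haveI : Subsingleton X.left := ⟨fun a b => by
      obtain ⟨a', rfl⟩ := P.left.surjective a
      obtain ⟨b', rfl⟩ := P.left.surjective b
      rw [hcl a', hcl b']⟩
    exact isAffine_of_subsingleton _
  obtain ⟨A, _, _, ⟨e⟩⟩ := exists_algebra K
  haveI : IsIso e.hom.left := inferInstanceAs (IsIso ((Over.forget _).map e.hom))
  haveI : IsOpenImmersion e.hom.left := inferInstance
  haveI : Algebra.FiniteType Ω A := finiteType_of_lft (by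
    rw [← Over.w e.hom]; exact inferInstanceAs (LocallyOfFiniteType (e.hom.left ≫ K.hom)))
  have hrange : ∀ {T : Over (Spec (CommRingCat.of Ω))} (g : T ⟶ K), Set.range g.left ⊆ Set.range e.hom.left :=
    fun g => by rintro x -; exact e.hom.left.surjective x
  let ψ : (pt₀ ⟶ K) → (A →ₐ[Ω] Ω) := fun u => (exists_gpt e.hom u (hrange u)).choose
  have hψ : ∀ u, gpt e.hom (ψ u) = u := fun u => (exists_gpt e.hom u (hrange u)).choose_spec.symm
  have hψ' : ∀ a : A →ₐ[Ω] Ω, ψ (gpt e.hom a) = a := fun a => gpt_injective e.hom (hψ _)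
  obtain ⟨Θ, hΘ⟩ := exists_gpt e.hom (gpt e.hom (Algebra.TensorProduct.includeLeft : A →ₐ[Ω] A ⊗[Ω] A) *
    gpt e.hom (Algebra.TensorProduct.includeRight : A →ₐ[Ω] A ⊗[Ω] A)) (hrange _)
  let pair : (pt₀ ⟶ K) → (pt₀ ⟶ K) → (A ⊗[Ω] A →ₐ[Ω] Ω) := fun v u =>
    Algebra.TensorProduct.lift (ψ v) (ψ u) (fun _ _ => Commute.all _ _)
  have hmul : ∀ v u f, ψ (v * u) f = pair v u (Θ f) := fun v u f => by
    have h : gpt e.hom ((pair v u).comp Θ) = v * u := by
      rw [gpt_comp, ← hΘ, MonObj.comp_mul, ← gpt_comp, ← gpt_comp,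
        Algebra.TensorProduct.lift_comp_includeLeft,
        show (pair v u).comp Algebra.TensorProduct.includeRight = ψ u from AlgHom.ext fun a => by simp [pair], hψ, hψ]
    rw [← h, hψ']
    rfl
  let ev : A →ₐ[Ω] ((pt₀ ⟶ K) → Ω) := AlgHom.pi ψ
  let Fn : Subalgebra Ω ((pt₀ ⟶ K) → Ω) := ev.range
  have hleft : ∀ φ ∈ Fn, ∀ x, (fun v => φ (x * v)) ∈ Fn := by
    rintro _ ⟨f, rfl⟩ x
    refine ⟨Algebra.TensorProduct.lift ((Algebra.ofId Ω A).comp (ψ x)) (AlgHom.id Ω A) (fun _ _ => Commute.all _ _) (Θ f),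
      funext fun v => ?_⟩
    show ψ v _ = ψ (x * v) f
    rw [hmul]
    induction Θ f using TensorProduct.induction_on with
    | zero => simp
    | tmul a b => simp [pair]
    | add a b ha hb => simp only [map_add, ha, hb]
  have hfin : ∀ φ ∈ Fn, ∃ W : Submodule Ω ((pt₀ ⟶ K) → Ω), FiniteDimensional Ω W ∧ φ ∈ W ∧
      (∀ ψ' ∈ W, ψ' ∈ Fn) ∧ ∀ g, ∀ ψ' ∈ W, rho g ψ' ∈ W := by
    rintro _ ⟨f, rfl⟩
    obtain ⟨T, hT⟩ := TensorProduct.exists_finset (Θ f)
    let W := Submodule.span Ω (Set.range fun g => rho g (ev f))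
    let U := Submodule.span Ω ((fun t : A × A => ev t.1) '' (T : Set (A × A)))
    have hle : W ≤ U := Submodule.span_le.2 (by
      rintro _ ⟨g, rfl⟩
      have : rho g (ev f) = ∑ t ∈ T, ψ g t.2 • ev t.1 := funext fun v => by
        show ψ (v * g) f = _
        rw [hmul, hT, map_sum, Finset.sum_apply]
        refine Finset.sum_congr rfl fun t _ => ?_
        simp [pair, ev, mul_comm]
      show rho g (ev f) ∈ U
      rw [this]
      exact Submodule.sum_mem _ fun t ht => Submodule.smul_mem _ _ (Submodule.subset_span ⟨t, ht, rfl⟩))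
    haveI : FiniteDimensional Ω U := FiniteDimensional.span_of_finite Ω (T.finite_toSet.image _)
    refine ⟨W, Submodule.finiteDimensional_of_le hle, Submodule.subset_span ⟨1, by simp⟩,
      fun ψ' h => ?_, fun g ψ' h => ?_⟩
    · exact (Submodule.span_le (p := Fn.toSubmodule)).2 (by rintro _ ⟨t, -, rfl⟩; exact ⟨t.1, rfl⟩) (hle h)
    · have : W.map (rho g) ≤ W := by
        rw [Submodule.map_span, Submodule.span_le]
        rintro _ ⟨_, ⟨g', rfl⟩, rfl⟩
        refine Submodule.subset_span ⟨g * g', funext fun v => ?_⟩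
        simp [rho_apply, _root_.mul_assoc]
      exact this ⟨ψ', h, rfl⟩
  let o' : pt₀ ⟶ X := toUnit _ ≫ o
  have hsmul : ∀ (g : pt₀ ⟶ K), g ≫ P = lift g o' ≫ act.act := fun g => GrpQuotLib.comp_orbitMap act o g
  let S : Subgroup (pt₀ ⟶ K) :=
    { carrier := {s | s ≫ P = o'}
      one_mem' := by
        show (1 : pt₀ ⟶ K) ≫ P = o'
        rw [hsmul, GrpQuotLib.one_smul]
      mul_mem' := fun {a b} ha hb => by
        show (a * b) ≫ P = o'
        rw [hsmul, GrpQuotLib.mul_smul, ← hsmul, (show b ≫ P = o' from hb), ← hsmul]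
        exact ha
      inv_mem' := fun {a} ha => by
        show a⁻¹ ≫ P = o'
        have h : lift a o' ≫ act.act = o' := (hsmul a).symm.trans ha
        calc a⁻¹ ≫ P = lift a⁻¹ o' ≫ act.act := hsmul _
          _ = lift a⁻¹ (lift a o' ≫ act.act) ≫ act.act := by rw [h]
          _ = o' := by rw [← GrpQuotLib.mul_smul, inv_mul_cancel, GrpQuotLib.one_smul] }
  have hS : ∀ u ∉ S, ∃ φ ∈ Fn, (∀ s ∈ S, φ s = 0) ∧ φ u ≠ 0 := fun u hu => by
    let m : Spec (CommRingCat.of A) ⟶ X.left := e.hom.left ≫ P.left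
    have hZ : IsClosed (m ⁻¹' {img o'}) := (img_mem_closedPoints o').preimage m.continuous
    obtain ⟨J, hJ⟩ := (PrimeSpectrum.isClosed_iff_zeroLocus_ideal _).1 hZ
    have himg : ∀ s : pt₀ ⟶ K, img (s ≫ P) = m ((specHom Ω (ψ s)).left (IsLocalRing.closedPoint Ω)) := fun s => by
      conv_lhs => rw [← hψ s]
      rfl
    have hmem : ∀ s : pt₀ ⟶ K, s ∈ S ↔ ∀ f ∈ J, ψ s f = 0 := fun s => by
      have h1 : s ∈ S ↔ img (s ≫ P) = img o' := ⟨fun h => by rw [show s ≫ P = o' from h], fun h => ext_img h⟩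
      rw [h1, himg]
      show (specHom Ω (ψ s)).left (IsLocalRing.closedPoint Ω) ∈ m ⁻¹' {img o'} ↔ _
      rw [hJ, PrimeSpectrum.mem_zeroLocus]
      show (J : Set A) ⊆ (Ideal.comap (ψ s : A →+* Ω) (IsLocalRing.maximalIdeal Ω) : Set A) ↔ _
      rw [IsLocalRing.maximalIdeal_eq_bot]
      exact Iff.rfl
    rw [hmem] at hu
    push Not at hu
    obtain ⟨f, hf, hfu⟩ := hu
    exact ⟨ev f, ⟨f, rfl⟩, fun s hs => (hmem s).1 hs f hf, hfu⟩
  let Inv : Set A := {f | ∀ v, ∀ s ∈ S, ev f (v * s) = ev f v}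
  have hsep : ∀ u v, (∀ f ∈ Inv, ψ u f = ψ v f) → u ≫ P = v ≫ P := fun u v huv => by
    have hw : v⁻¹ * u ∈ S := by
      by_contra hw
      obtain ⟨φ, hφ, h0, hne⟩ := hS _ hw
      obtain ⟨F, hF, hFS, hFu⟩ := exists_invariant_ne p hK Fn hleft hfin S hφ h0 hne
      obtain ⟨f, hf⟩ := hleft F hF v⁻¹
      refine hFu ?_
      have hinv : f ∈ Inv := fun t s hs => by
        have hts := congrFun hf (t * s)
        have ht := congrFun hf t
        refine hts.trans (Eq.trans ?_ ht.symm)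
        show F (v⁻¹ * (t * s)) = F (v⁻¹ * t)
        rw [← _root_.mul_assoc, hFS _ s hs]
      have := huv f hinv
      rw [show ψ u f = F (v⁻¹ * u) from congrFun hf u, show ψ v f = F (v⁻¹ * v) from congrFun hf v, inv_mul_cancel] at this
      exact this
    calc u ≫ P = (v * (v⁻¹ * u)) ≫ P := by rw [mul_inv_cancel_left]
      _ = v ≫ P := by rw [hsmul, GrpQuotLib.mul_smul, ← hsmul, show (v⁻¹ * u) ≫ P = o' from hw, ← hsmul]
  -- finitely many invariant functions suffice
  haveI : Algebra.FiniteType Ω (A ⊗[Ω] A) := Algebra.FiniteType.trans ‹Algebra.FiniteType Ω A›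
    (inferInstance : Algebra.FiniteType A (A ⊗[Ω] A))
  haveI : IsNoetherianRing (A ⊗[Ω] A) := Algebra.FiniteType.isNoetherianRing Ω _
  let dlt : A → A ⊗[Ω] A := fun f => f ⊗ₜ 1 - 1 ⊗ₜ f
  obtain ⟨s, hs, hsspan⟩ := (Submodule.fg_span_iff_fg_span_finset_subset (R := A ⊗[Ω] A) (dlt '' Inv)).1
    (IsNoetherian.noetherian _)
  choose fs hfsInv hfs using fun z : s => hs z.2
  -- the fibre square
  haveI : QuasiCompact (P.left ≫ X.hom) := by rw [Over.w]; infer_instance
  haveI : QuasiCompact P.left := QuasiCompact.of_comp P.left X.hom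
  haveI : SchDesc.IsFpqc P.left := SchDesc.IsFpqc.of_quasiCompact _
  let Z : Over (Spec (CommRingCat.of Ω)) := Over.mk (pullback.fst P.left P.left ≫ K.hom)
  let z₁ : Z ⟶ K := Over.homMk (pullback.fst P.left P.left) rfl
  let z₂ : Z ⟶ K := Over.homMk (pullback.snd P.left P.left) (by
    show pullback.snd P.left P.left ≫ K.hom = pullback.fst P.left P.left ≫ K.hom
    rw [← Over.w P, ← Category.assoc, ← Category.assoc, pullback.condition])
  haveI : IsClosedImmersion (pullback.mapDesc P.left P.left X.hom) := inferInstance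
  haveI : IsAffine (pullback P.left P.left) := by
    haveI : IsAffine (pullback (P.left ≫ X.hom) (P.left ≫ X.hom)) := by rw [Over.w]; infer_instance
    exact isAffine_of_isAffineHom (pullback.mapDesc P.left P.left X.hom)
  haveI : IsAffine Z.left := inferInstanceAs (IsAffine (pullback P.left P.left))
  haveI : LocallyOfFiniteType Z.hom := by
    haveI : LocallyOfFiniteType (P.left ≫ X.hom) := by rw [Over.w]; infer_instance
    haveI : LocallyOfFiniteType P.left := locallyOfFiniteType_of_comp P.left X.hom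
    exact inferInstanceAs (LocallyOfFiniteType (pullback.fst P.left P.left ≫ K.hom))
  obtain ⟨C, _, _, ⟨e'⟩⟩ := exists_algebra Z
  haveI : Algebra.FiniteType Ω C := finiteType_of_lft (by
    rw [← Over.w e'.hom]; exact inferInstanceAs (LocallyOfFiniteType (e'.hom.left ≫ Z.hom)))
  haveI : IsNoetherianRing C := Algebra.FiniteType.isNoetherianRing Ω C
  obtain ⟨α, hα⟩ := exists_gpt e.hom (e'.hom ≫ z₁) (hrange _)
  obtain ⟨β, hβ⟩ := exists_gpt e.hom (e'.hom ≫ z₂) (hrange _)
  have hz : z₁ ≫ P = z₂ ≫ P := Over.OverMorphism.ext pullback.condition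
  have hnil : ∀ f ∈ Inv, IsNilpotent (α f - β f) := fun f hf => isNilpotent_of_forall (Ω := Ω) fun c => by
    let u := specHom Ω c ≫ e'.hom ≫ z₁
    let v := specHom Ω c ≫ e'.hom ≫ z₂
    have huv : u ≫ P = v ≫ P := by simp only [u, v, Category.assoc, hz]
    have hu : ψ u = c.comp α := by rw [← hψ' (c.comp α), gpt_comp, ← hα]
    have hv : ψ v = c.comp β := by rw [← hψ' (c.comp β), gpt_comp, ← hβ]
    have hw : v⁻¹ * u ∈ S := by
      show (v⁻¹ * u) ≫ P = o'
      rw [hsmul, GrpQuotLib.mul_smul, ← hsmul, huv, hsmul, ← GrpQuotLib.mul_smul, inv_mul_cancel, GrpQuotLib.one_smul]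
    have := hf v (v⁻¹ * u) hw
    rw [mul_inv_cancel_left] at this
    rw [map_sub, sub_eq_zero]
    exact (AlgHom.congr_fun hu f).symm.trans (this.trans (AlgHom.congr_fun hv f))
  obtain ⟨n, hn⟩ := (inferInstance : IsNoetherianRing C) |>.isNilpotent_nilradical
  let q := p ^ n
  have hq : ∀ f ∈ Inv, α f ^ q = β f ^ q := fun f hf => by
    rcases subsingleton_or_nontrivial C with hC | hC
    · exact Subsingleton.elim _ _
    haveI : ExpChar C p := expChar_of_injective_algebraMap (algebraMap Ω C).injective p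
    rw [← sub_eq_zero, ← sub_pow_expChar_pow]
    have h0 : (α f - β f) ^ n = 0 := by
      have := Ideal.pow_mem_pow (mem_nilradical.2 (hnil f hf)) n
      rwa [hn, Submodule.zero_eq_bot, Ideal.mem_bot] at this
    exact pow_eq_zero_of_le (Nat.lt_pow_self hp.one_lt).le h0
  -- the map to affine space
  let Pol := MvPolynomial s Ω
  let F : Pol →ₐ[Ω] A := MvPolynomial.aeval fun z => fs z ^ q
  let Y := specOver Ω Pol
  have hFX : ∀ z, F (MvPolynomial.X z) = fs z ^ q := fun z => MvPolynomial.aeval_X _ z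
  let gK : K ⟶ Y := e.inv ≫ specHom Ω F
  obtain ⟨g, hg⟩ := GrpQuotLib.exists_desc P gK fun T r₁ r₂ hr => by
    let l : T ⟶ Z := Over.homMk (pullback.lift r₁.left r₂.left (congrArg CommaMorphism.left hr)) (by
      show pullback.lift _ _ _ ≫ pullback.fst _ _ ≫ K.hom = T.hom
      rw [pullback.lift_fst_assoc, Over.w])
    have hl₁ : l ≫ z₁ = r₁ := Over.OverMorphism.ext (pullback.lift_fst _ _ _)
    have hl₂ : l ≫ z₂ = r₂ := Over.OverMorphism.ext (pullback.lift_snd _ _ _)
    have h1 : e'.hom ≫ z₁ ≫ e.inv = specHom Ω α := by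
      rw [← Category.assoc, hα, gpt, Category.assoc, Iso.hom_inv_id, Category.comp_id]
    have h2 : e'.hom ≫ z₂ ≫ e.inv = specHom Ω β := by
      rw [← Category.assoc, hβ, gpt, Category.assoc, Iso.hom_inv_id, Category.comp_id]
    have h12 : z₁ ≫ gK = z₂ ≫ gK := by
      rw [← cancel_epi e'.hom]
      show e'.hom ≫ z₁ ≫ e.inv ≫ _ = e'.hom ≫ z₂ ≫ e.inv ≫ _
      rw [reassoc_of% h1, reassoc_of% h2, ← specHom_comp, ← specHom_comp]
      congr 1
      refine MvPolynomial.algHom_ext fun z => ?_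
      show α (F (MvPolynomial.X z)) = β (F (MvPolynomial.X z))
      rw [hFX, map_pow, map_pow]
      exact hq _ (hfsInv z)
    rw [← hl₁, ← hl₂, Category.assoc, Category.assoc, h12]
  haveI : IsAffine Y.left := inferInstanceAs (IsAffine (Spec (CommRingCat.of Pol)))
  haveI : LocallyOfFiniteType Y.hom := (HasRingHomProperty.Spec_iff (P := @LocallyOfFiniteType)).2
    (RingHom.finiteType_algebraMap.2 (inferInstance : Algebra.FiniteType Ω Pol))
  have hpts : ∀ u, (u ≫ P) ≫ g = specHom Ω ((ψ u).comp F) := fun u => by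
    rw [Category.assoc, hg, specHom_comp]
    conv_lhs => rw [← hψ u]
    simp only [gK, gpt, Category.assoc, Iso.hom_inv_id_assoc]
  have hlift : ∀ x ∈ closedPoints X.left, ∃ u : pt₀ ⟶ K, img (u ≫ P) = x := fun x hx => by
    obtain ⟨w, rfl⟩ := P.left.surjective x
    obtain ⟨z, hz, hzc⟩ := nonempty_inter_closedPoints (Z := P.left ⁻¹' {P.left w}) ⟨w, rfl⟩
      (hx.preimage P.left.continuous).isLocallyClosed
    obtain ⟨u, rfl⟩ := exists_pt hzc
    exact ⟨u, hz⟩
  have hinj : ∀ x₁ ∈ closedPoints X.left, ∀ x₂ ∈ closedPoints X.left, g.left x₁ = g.left x₂ → x₁ = x₂ := by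
    intro x₁ h₁ x₂ h₂ he
    obtain ⟨u, rfl⟩ := hlift x₁ h₁
    obtain ⟨v, rfl⟩ := hlift x₂ h₂
    have huv : (u ≫ P) ≫ g = (v ≫ P) ≫ g := ext_img he
    have hc := specHom_pt_ext huv (hpts u) (hpts v)
    rw [hsep u v fun f hf => ?_]
    have hgen : ∀ z ∈ dlt '' Inv, pair u v z = 0 := by
      intro z hz
      have hz' : z ∈ Submodule.span (A ⊗[Ω] A) ((s : Finset (A ⊗[Ω] A)) : Set (A ⊗[Ω] A)) :=
        hsspan ▸ Submodule.subset_span hz
      have hker : Submodule.span (A ⊗[Ω] A) ((s : Finset (A ⊗[Ω] A)) : Set (A ⊗[Ω] A)) ≤ RingHom.ker (pair u v) := by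
        refine Ideal.span_le.2 fun w hw => ?_
        show pair u v w = 0
        obtain ⟨w', rfl⟩ : ∃ w' : s, (w' : A ⊗[Ω] A) = w := ⟨⟨w, hw⟩, rfl⟩
        have hq' := AlgHom.congr_fun hc (MvPolynomial.X w')
        rw [AlgHom.comp_apply, AlgHom.comp_apply, hFX, map_pow, map_pow] at hq'
        have hval : ψ u (fs w') = ψ v (fs w') := by
          apply iterateFrobenius_inj Ω p n
          simpa [iterateFrobenius_def] using hq'
        rw [← hfs w']
        simp [pair, dlt, hval]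
      exact hker hz'
    have := hgen _ ⟨f, hf, rfl⟩
    simpa [pair, dlt, sub_eq_zero] using this
  haveI : LocallyOfFiniteType (g.left ≫ Y.hom) := by rw [Over.w]; infer_instance
  haveI : LocallyOfFiniteType g.left := locallyOfFiniteType_of_comp g.left Y.hom
  haveI : LocallyQuasiFinite g.left := by
    rw [← Scheme.Hom.quasiFiniteLocus_eq_top_iff]
    by_contra hne
    obtain ⟨x₀, hx₀⟩ : ∃ x₀, x₀ ∉ g.left.quasiFiniteLocus := by
      by_contra! h
      exact hne (top_le_iff.1 fun x _ => h x)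
    obtain ⟨x, hxn, hxc⟩ := nonempty_inter_closedPoints (Z := (g.left.quasiFiniteLocus : Set X.left)ᶜ) ⟨x₀, hx₀⟩
      g.left.quasiFiniteLocus.isOpen.isClosed_compl.isLocallyClosed
    refine hxn (Scheme.Hom.quasiFiniteAt_iff_isOpen_singleton_asFiber.mpr ?_)
    obtain ⟨u, hu⟩ := hlift x hxc
    have hy : IsClosed ({g.left x} : Set Y.left) := by
      rw [← hu]
      exact img_mem_closedPoints ((u ≫ P) ≫ g)
    have hfib : g.left ⁻¹' {g.left x} = {x} := by
      refine Set.Subset.antisymm (fun z hz => ?_) (Set.singleton_subset_iff.2 rfl)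
      by_contra hzx
      obtain ⟨w, ⟨hw, hwx⟩, hwc⟩ := nonempty_inter_closedPoints (Z := g.left ⁻¹' {g.left x} ∩ {x}ᶜ) ⟨z, hz, hzx⟩
        ((hy.preimage g.left.continuous).isLocallyClosed.inter hxc.isOpen_compl.isLocallyClosed)
      exact hwx (hinj w hwc x hxc hw)
    haveI : Subsingleton ↥(g.left ⁻¹' {g.left x}) := ⟨fun a b => Subtype.ext (by
      exact (show a.1 = x from hfib.subset a.2).trans (show b.1 = x from hfib.subset b.2).symm)⟩
    haveI : Subsingleton (g.left.fiber (g.left x)) := (g.left.fiberHomeo (g.left x)).injective.subsingleton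
    exact isOpen_discrete _
  haveI : CompactSpace X.left := ⟨by
    rw [← P.left.surjective.range_eq]
    exact isCompact_range P.left.continuous⟩
  haveI : IsSeparated (g.left ≫ Y.hom) := by rw [Over.w]; infer_instance
  haveI : IsSeparated g.left := IsSeparated.of_comp g.left Y.hom
  haveI : X.left.IsQuasiAffine := ObsLib.isQuasiAffine_of_quasiFinite g.left
  -- a fixed nonvanishing combination of basic functions
  let val : (pt₀ ⟶ X) → (Γ(X.left, ⊤) →+* Ω) := fun x =>
    ((Scheme.ΓSpecIso (CommRingCat.of Ω)).hom.hom).comp x.left.appTop.hom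
  have hval : ∀ (x : pt₀ ⟶ X) (r : Γ(X.left, ⊤)), img x ∈ X.left.basicOpen r ↔ val x r ≠ 0 := fun x r => by
    show IsLocalRing.closedPoint Ω ∈ x.left ⁻¹ᵁ X.left.basicOpen r ↔ _
    rw [Scheme.preimage_basicOpen_top]
    show _ ↔ (Scheme.ΓSpecIso (CommRingCat.of Ω)).commRingCatIsoToRingEquiv (x.left.appTop r) ≠ 0
    generalize x.left.appTop r = y
    constructor
    · intro h h0
      rw [map_eq_zero_iff _ (RingEquiv.injective _)] at h0
      rw [h0, Scheme.basicOpen_zero] at h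
      exact h
    · intro h
      have hu : IsUnit y := by
        rw [← isUnit_map_iff (Scheme.ΓSpecIso (CommRingCat.of Ω)).commRingCatIsoToRingEquiv, isUnit_iff_ne_zero]
        exact h
      rw [Scheme.basicOpen_of_isUnit _ hu]
      trivial
  let ev' : Γ(X.left, ⊤) →+* ((pt₀ ⟶ K) → Ω) := Pi.ringHom fun v => val (v⁻¹ ≫ P)
  let cX : Ω →+* Γ(X.left, ⊤) := ((X.hom.appTop).hom).comp (Scheme.ΓSpecIso (CommRingCat.of Ω)).inv.hom
  have hcX : ∀ (x : pt₀ ⟶ X) (c : Ω), val x (cX c) = c := fun x c => by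
    have h : ((Scheme.ΓSpecIso (CommRingCat.of Ω)).inv ≫ X.hom.appTop ≫ x.left.appTop ≫
        (Scheme.ΓSpecIso (CommRingCat.of Ω)).hom).hom c = c := by
      have e1 : X.hom.appTop ≫ x.left.appTop = 𝟙 _ := by
        rw [← Scheme.Hom.comp_appTop, (Over.w x).trans pt₀_hom, Scheme.Hom.id_appTop]
        rfl
      rw [reassoc_of% e1, Iso.inv_hom_id]
      rfl
    exact h
  let Aff : Set Γ(X.left, ⊤) := {r | IsAffineOpen (X.left.basicOpen r)}
  let J := Ideal.span Aff
  let T₀ : Submodule Ω ((pt₀ ⟶ K) → Ω) :=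
    { carrier := ev' '' (J : Set Γ(X.left, ⊤))
      add_mem' := by rintro _ _ ⟨a, ha, rfl⟩ ⟨b, hb, rfl⟩; exact ⟨a + b, J.add_mem ha hb, map_add _ _ _⟩
      zero_mem' := ⟨0, J.zero_mem, map_zero _⟩
      smul_mem' := by
        rintro c _ ⟨a, ha, rfl⟩
        refine ⟨cX c * a, J.mul_mem_left _ ha, funext fun v => ?_⟩
        show val _ (cX c * a) = c * val _ a
        rw [map_mul, hcX] }
  obtain ⟨r, hr, hrne⟩ : ∃ r ∈ Aff, ev' r ≠ 0 := by
    obtain ⟨_, ⟨_, ⟨r, hr, rfl⟩, rfl⟩, hxr, -⟩ := (Scheme.IsQuasiAffine.isBasis_basicOpen X.left).exists_subset_of_mem_open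
      (Set.mem_univ (img ((1 : pt₀ ⟶ K) ≫ P))) isOpen_univ
    refine ⟨r, hr, fun h0 => (hval _ r).1 hxr ?_⟩
    have := congrFun h0 1
    rw [show ((1 : pt₀ ⟶ K) ≫ P) = ((1 : pt₀ ⟶ K)⁻¹ ≫ P) by rw [inv_one]]
    exact this
  let j₀ : pt₀ ⟶ 𝟙_ (Over (Spec (CommRingCat.of Ω))) := toUnit _
  haveI : IsIso j₀ := by
    haveI : IsIso ((Over.forget _).map j₀) := by
      show IsIso (pt₀).hom
      rw [pt₀_hom]; infer_instance
    exact isIso_of_reflects_iso j₀ (Over.forget _)
  let tr : (pt₀ ⟶ K) → (X ⟶ X) := fun g => lift (toUnit X ≫ inv j₀ ≫ g) (𝟙 X) ≫ act.act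
  have htr : ∀ (g : pt₀ ⟶ K) (x : pt₀ ⟶ X), x ≫ tr g = lift g x ≫ act.act := fun g x => by
    show x ≫ lift (toUnit X ≫ inv j₀ ≫ g) (𝟙 X) ≫ act.act = _
    rw [← Category.assoc x, comp_lift, Category.comp_id, ← Category.assoc x, comp_toUnit,
      show toUnit (pt₀) = j₀ from rfl, IsIso.hom_inv_id_assoc]
  have hmul_lift : ∀ g h, tr g ≫ tr h = tr (h * g) := fun g h => by
    show (lift (toUnit X ≫ inv j₀ ≫ g) (𝟙 X) ≫ act.act) ≫ lift (toUnit X ≫ inv j₀ ≫ h) (𝟙 X) ≫ act.act =
      lift (toUnit X ≫ inv j₀ ≫ (h * g)) (𝟙 X) ≫ act.act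
    rw [← Category.assoc _ (lift _ _), comp_lift, Category.comp_id, comp_toUnit_assoc, ← GrpQuotLib.mul_smul,
      ← MonObj.comp_mul, ← MonObj.comp_mul]
  have htr1 : tr 1 = 𝟙 X := by
    show lift (toUnit X ≫ inv j₀ ≫ (1 : pt₀ ⟶ K)) (𝟙 X) ≫ act.act = _
    rw [MonObj.comp_one, MonObj.comp_one, GrpQuotLib.one_smul]
  have hiso : ∀ g, IsIso (tr g) := fun g => ⟨tr g⁻¹, by rw [hmul_lift, inv_mul_cancel, htr1],
    by rw [hmul_lift, mul_inv_cancel, htr1]⟩
  have hrho : ∀ g, rho g (ev' r) = ev' ((tr g⁻¹).left.appTop r) := fun g => funext fun v => by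
    show val ((v * g)⁻¹ ≫ P) r = val (v⁻¹ ≫ P) ((tr g⁻¹).left.appTop r)
    rw [mul_inv_rev, hsmul, GrpQuotLib.mul_smul, ← hsmul, ← htr]
    show (Scheme.ΓSpecIso (CommRingCat.of Ω)).hom (((v⁻¹ ≫ P).left ≫ (tr g⁻¹).left).appTop r) = _
    rw [Scheme.Hom.comp_appTop]
    rfl
  let W := Submodule.span Ω (Set.range fun g => rho g (ev' r))
  have hWT : W ≤ T₀ := Submodule.span_le.2 (by
    rintro _ ⟨g, rfl⟩
    haveI := hiso g⁻¹
    haveI : IsIso (tr g⁻¹).left := inferInstanceAs (IsIso ((Over.forget _).map (tr g⁻¹)))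
    refine ⟨(tr g⁻¹).left.appTop r, Ideal.subset_span ?_, (hrho g).symm⟩
    show IsAffineOpen _
    rw [← Scheme.preimage_basicOpen_top]
    exact hr.preimage_of_isIso _)
  haveI : FiniteDimensional Ω W := by
    let f : A := (Scheme.ΓSpecIso (CommRingCat.of A)).hom ((e.hom.left ≫ P.left).appTop r)
    have hf : ∀ v, ev' r v = ψ v⁻¹ f := fun v => by
      show val (v⁻¹ ≫ P) r = _
      conv_lhs => rw [← hψ v⁻¹]
      show (Scheme.ΓSpecIso (CommRingCat.of Ω)).hom
        ((Spec.map (CommRingCat.ofHom (ψ v⁻¹).toRingHom) ≫ e.hom.left ≫ P.left).appTop r) = _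
      rw [Scheme.Hom.comp_appTop]
      have hn := congrArg (fun t => t.hom ((e.hom.left ≫ P.left).appTop r))
        (Scheme.ΓSpecIso_naturality (CommRingCat.ofHom (ψ v⁻¹).toRingHom))
      exact hn
    obtain ⟨T, hT⟩ := TensorProduct.exists_finset (Θ f)
    let U := Submodule.span Ω ((fun t : A × A => fun v => ψ v⁻¹ t.2) '' (T : Set (A × A)))
    haveI : FiniteDimensional Ω U := FiniteDimensional.span_of_finite Ω (T.finite_toSet.image _)
    refine Submodule.finiteDimensional_of_le (show W ≤ U from Submodule.span_le.2 ?_)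
    rintro _ ⟨g, rfl⟩
    have : rho g (ev' r) = ∑ t ∈ T, ψ g⁻¹ t.1 • (fun v => ψ v⁻¹ t.2) := funext fun v => by
      rw [rho_apply, hf, mul_inv_rev, hmul, hT, map_sum, Finset.sum_apply]
      exact Finset.sum_congr rfl fun t _ => by simp [pair]
    show rho g (ev' r) ∈ U
    rw [this]
    exact Submodule.sum_mem _ fun t ht => Submodule.smul_mem _ _ (Submodule.subset_span ⟨t, ht, rfl⟩)
  have hr0 : ev' r ∈ W := Submodule.subset_span ⟨1, by simp⟩
  haveI : Nontrivial W := ⟨⟨⟨ev' r, hr0⟩, 0, fun h => hrne (congrArg Subtype.val h)⟩⟩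
  obtain ⟨φ, hφ, hφ1, hφc⟩ := exists_fixed p hK W fun g ψ' h => by
    have : W.map (rho g) ≤ W := by
      rw [Submodule.map_span, Submodule.span_le]
      rintro _ ⟨_, ⟨g', rfl⟩, rfl⟩
      refine Submodule.subset_span ⟨g * g', funext fun v => ?_⟩
      simp [rho_apply, _root_.mul_assoc]
    exact this ⟨ψ', h, rfl⟩
  obtain ⟨j, hj, rfl⟩ := hWT hφ
  have hj1 : X.left.basicOpen j = ⊤ := by
    by_contra hne
    obtain ⟨x₀, hx₀⟩ : ∃ x₀, x₀ ∉ X.left.basicOpen j := by
      by_contra! h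
      exact hne (top_le_iff.1 fun x _ => h x)
    obtain ⟨x, hxn, hxc⟩ := nonempty_inter_closedPoints (Z := (X.left.basicOpen j : Set X.left)ᶜ) ⟨x₀, hx₀⟩
      (X.left.basicOpen j).isOpen.isClosed_compl.isLocallyClosed
    obtain ⟨u, rfl⟩ := hlift x hxc
    refine hxn ((hval _ j).2 ?_)
    have h := hφc u⁻¹
    change val (u⁻¹⁻¹ ≫ P) j = _ at h
    rw [inv_inv] at h
    rw [h]
    exact hφ1
  have hJ : J = ⊤ := Ideal.eq_top_of_isUnit_mem J hj (RingedSpace.isUnit_of_isUnit_germ _ _ _ fun x hx => by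
    exact (X.left.mem_basicOpen j x hx).1 (hj1.symm ▸ trivial))
  exact isAffine_of_isAffineOpen_basicOpen Aff hJ fun _ h => h

end HomogPLib
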