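import Groth.Agent.GrpQuotLib.QuotProp
import Groth.Agent.FppfSrc.Scheme
import Groth.Agent.FpqcDesc.Stalk
import Groth.Prelude.Def_ChGrp
import Groth.Prelude.Def_ActBC

/-!
# The orbit map of an fppf homogeneous space over a field
-/

set_option autoImplicit false
set_option backward.isDefEq.respectTransparency false
set_option linter.style.haveILetI false
universe u

open CategoryTheory CategoryTheory.Limits AlgebraicGeometry MonoidalCategory CartesianMonoidalCategory MonObj
open Groth.Agent

noncomputable section

namespace HomogPLib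

attribute [-instance] CategoryTheory.Hom.commGroup

section Points

variable {S : Scheme.{u}} {A X : Over S} [GrpObj A] {a : AlgGrp.Action A X}

/-- Points form of the equivariance of a map out of the group. -/
theorem lift_equivariant {f : A ⟶ X} (h : AlgGrp.Action.IsEquivariant (NonAbH1.trivialAction A) a f) {T : Over S}
    (x y : T ⟶ A) : lift x (y ≫ f) ≫ a.act = (x * y) ≫ f := by
  have e := congrArg (lift x y ≫ ·) (show (NonAbH1.trivialAction A).act ≫ f = (A ◁ f) ≫ a.act from h)
  simp only [← Category.assoc, lift_whiskerLeft] at e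
  rw [← e, Hom.mul_def]
  rfl

/-- An equivariant map out of the group is the orbit map of the image of the unit. -/
theorem orbitMap_of_equivariant {f : A ⟶ X} (h : AlgGrp.Action.IsEquivariant (NonAbH1.trivialAction A) a f) :
    a.orbitMap (η[A] ≫ f) = f := by
  have e := AlgGrp.Action.comp_orbitMap a (𝟙 A) (η[A] ≫ f)
  rw [Category.id_comp] at e
  rw [e, ← Category.assoc, lift_equivariant h, ← Hom.one_def, _root_.mul_one, Category.id_comp]

/-- An orbit map is equivariant. -/
theorem isEquivariant_orbitMap (o : 𝟙_ (Over S) ⟶ X) :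
    AlgGrp.Action.IsEquivariant (NonAbH1.trivialAction A) a (a.orbitMap o) := by
  refine AlgGrp.Action.hom_ext_lift₂ fun T x y => ?_
  rw [lift_whiskerLeft_assoc, ← Category.assoc, show lift x y ≫ (NonAbH1.trivialAction A).act = x * y from
    (Hom.mul_def x y).symm, AlgGrp.Action.comp_orbitMap, AlgGrp.Action.comp_orbitMap, AlgGrp.Action.lift_mul_act]

end Points

variable {k : Type u} [Field k] {R H Q : Over (Spec (CommRingCat.of k))} [GrpObj R] [GrpObj H] {j : H ⟶ R}
  [IsClosedImmersion j.left] [LocallyOfFiniteType R.hom] {aQ : AlgGrp.Action R Q} {q₀ : 𝟙_ _ ⟶ Q}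

/-- The orbit map of a homogeneous space over a field is fppf, and the space is separated and locally of finite type. -/
theorem homog_props (hQ : ChGrp.IsHomog Scheme.fppfPrecoverage j aQ q₀) :
    Flat (aQ.orbitMap q₀).left ∧ Surjective (aQ.orbitMap q₀).left ∧ LocallyOfFiniteType Q.hom ∧
      IsSeparated Q.hom := by
  obtain ⟨-, hsq, Rc, hRc, hloc⟩ := hQ
  obtain ⟨ι', Y, f, rfl⟩ := Rc.exists_eq_ofArrows
  let E : PreZeroHypercover Q.left := { I₀ := ι', X := Y, f := f }
  have hE : E.presieve₀ ∈ Scheme.precoverage (@Flat ⊓ @LocallyOfFinitePresentation) Q.left := hRc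
  obtain ⟨hs, hp⟩ := (Scheme.presieve₀_mem_precoverage_iff (P := @Flat ⊓ @LocallyOfFinitePresentation) (E := E)).mp hE
  choose idx yy hyy using hs
  let π := aQ.orbitMap q₀
  let Y' : Q.left → Scheme.{u} := fun x => E.X (idx x)
  have hsec : ∀ x, ∃ t : Y' x ⟶ R.left, t ≫ π.left = E.f (idx x) := fun x =>
    hloc (f (idx x)) (Presieve.ofArrows.mk (idx x))
  choose s hs' using hsec
  let c : ∐ Y' ⟶ Q.left := Sigma.desc fun x => E.f (idx x)
  haveI : Flat c := IsZariskiLocalAtSource.sigmaDesc fun x => (hp (idx x)).1
  haveI : LocallyOfFinitePresentation c := IsZariskiLocalAtSource.sigmaDesc fun x => (hp (idx x)).2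
  haveI : Surjective c := ⟨fun x => ⟨Sigma.ι Y' x (yy x), by
    rw [← Scheme.Hom.comp_apply, Sigma.ι_desc]; exact hyy x⟩⟩
  let Z : Over (Spec (CommRingCat.of k)) := Over.mk (c ≫ Q.hom)
  have hsπ : Sigma.desc s ≫ π.left = c := Sigma.hom_ext _ _ fun i => by simp [c, hs']
  let r : Z ⟶ R := Over.homMk (Sigma.desc s) (by rw [← Over.w π, ← Category.assoc, hsπ]; rfl)
  have hrπ : (r ≫ π).left = c := hsπ
  haveI : LocallyOfFiniteType H.hom := by rw [← Over.w j]; infer_instance
  haveI : LocallyOfFinitePresentation H.hom := inferInstance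
  haveI : Flat H.hom := inferInstance
  have key : ∀ (P : MorphismProperty Scheme.{u}) [P.IsStableUnderBaseChange], P H.hom →
      P (pullback.snd π.left c) := fun P _ hP => by
    have h1 : IsPullback ((R ◁ j) ≫ μ[R]).left (fst R H).left π.left π.left := hsq.flip.map (Over.forget _)
    have h2 := (IsPullback.of_hasPullback (fst R H).left r.left).paste_horiz h1
    rw [show r.left ≫ π.left = c from hsπ] at h2
    rw [← h2.isoPullback_inv_snd]
    exact MorphismProperty.RespectsIso.precomp P h2.isoPullback.inv _
      (MorphismProperty.pullback_snd _ _ (MorphismProperty.pullback_fst R.hom H.hom hP))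
  haveI : Flat (pullback.snd π.left c) := key @Flat inferInstance
  haveI : LocallyOfFinitePresentation (pullback.snd π.left c) := key @LocallyOfFinitePresentation inferInstance
  haveI : Flat (pullback.fst π.left c ≫ π.left) := by rw [pullback.condition]; infer_instance
  haveI : Flat π.left := FlatDescStalk.flat_of_comp (pullback.fst π.left c) π.left
  haveI : Surjective (Sigma.desc s ≫ π.left) := hsπ ▸ ‹Surjective c›
  haveI : Surjective π.left := Surjective.of_comp (Sigma.desc s) π.left
  haveI : LocallyOfFinitePresentation (pullback.fst π.left c ≫ π.left) := by rw [pullback.condition]; infer_instance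
  haveI : LocallyOfFinitePresentation π.left := FppfSrc.locallyOfFinitePresentation_of_precomp_fppf
    (pullback.fst π.left c) π.left
  haveI : LocallyOfFiniteType (π.left ≫ Q.hom) := by rw [Over.w]; infer_instance
  refine ⟨‹_›, ‹_›, FppfSrc.locallyOfFiniteType_of_precomp_fppf π.left Q.hom, ?_⟩
  haveI : SchDesc.IsFpqc (r ≫ π).left := by rw [hrπ]; exact SchDesc.IsFpqc.of_locallyOfFinitePresentation c
  exact GrpQuotLib.isSeparated_of_isClosedImmersion hsq.flip r

end HomogPLib
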