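import Groth.Agent.HomogPLib.Geom
import Groth.Agent.HomogPLib.Orbit
import Groth.Agent.WeilKerLib.Quot
import Groth.Agent.WeilPtsLib.LFP

/-!
# Homogeneous spaces of Weil restrictions by the image of the comparison map are affine
-/

set_option autoImplicit false
set_option backward.isDefEq.respectTransparency false
set_option linter.style.haveILetI false
universe u

open CategoryTheory CategoryTheory.Limits AlgebraicGeometry MonoidalCategory CartesianMonoidalCategory MonObj
open WeilPtsLib WeilKerLib Groth.Agent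

noncomputable section

namespace HomogPLib

attribute [-instance] CategoryTheory.Hom.commGroup

/-- Affineness descends along a field extension. -/
theorem isAffine_of_bc {F F' : Type u} [Field F] [Field F'] [Algebra F F'] (Q : Over (Spec (CommRingCat.of F)))
    (h : IsAffine (Red.bc (Spec.map (CommRingCat.ofHom (algebraMap F F'))) Q).left) : IsAffine Q.left := by
  let φ := Spec.map (CommRingCat.ofHom (algebraMap F F'))
  haveI : Surjective φ :=
    ⟨fun s => ⟨IsLocalRing.closedPoint F', Subsingleton.elim (α := PrimeSpectrum F) _ _⟩⟩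
  haveI := FpqcDesc.isAffineHom_descends.{u}
  haveI : IsAffine (Red.bc φ Q).left := h
  have hQa : IsAffineHom Q.hom :=
    MorphismProperty.of_isPullback_of_descendsAlong (P := @IsAffineHom) (Q := @Surjective ⊓ @Flat ⊓ @QuasiCompact)
      (IsPullback.of_hasPullback Q.hom φ).flip ⟨⟨inferInstance, inferInstance⟩, inferInstance⟩
      (inferInstanceAs (IsAffineHom (Red.bc φ Q).hom))
  exact isAffine_of_isAffineHom Q.hom

/-- Homogeneous spaces of affine groups of `p`-power exponent are affine, over any field. -/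
theorem isAffine_homogeneous_field {F : Type u} [Field F] {K X : Over (Spec (CommRingCat.of F))} [GrpObj K]
    [IsAffine K.left] [LocallyOfFiniteType K.hom] [LocallyOfFiniteType X.hom] [IsSeparated X.hom]
    (act : AlgGrp.Action K X) (f : K ⟶ X) [Flat f.left] [Surjective f.left]
    (hf : AlgGrp.Action.IsEquivariant (NonAbH1.trivialAction K) act f)
    (p N : ℕ) [ExpChar F p] (hK : (𝟙 K) ^ (p ^ N) = 1) : IsAffine X.left := by
  let Ω := AlgebraicClosure F
  let φ := Spec.map (CommRingCat.ofHom (algebraMap F Ω))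
  haveI : ExpChar Ω p := expChar_of_injective_algebraMap (algebraMap F Ω).injective p
  let fΩ : Red.bc φ K ⟶ Red.bc φ X := (Over.pullback φ).map f
  haveI : Flat fΩ.left := MorphismProperty.of_isPullback (WeilKerLib.isPullback_bc_map f).flip ‹Flat f.left›
  haveI : Surjective fΩ.left := MorphismProperty.of_isPullback (WeilKerLib.isPullback_bc_map f).flip ‹Surjective f.left›
  have hfΩ : AlgGrp.Action.IsEquivariant (NonAbH1.trivialAction (Red.bc φ K)) (act.bc φ) fΩ :=
    NonAbH1.bc_trivialAction φ (G := K) ▸ AlgGrp.Action.isEquivariant_bc φ hf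
  have horb : (act.bc φ).orbitMap (η[Red.bc φ K] ≫ fΩ) = fΩ := orbitMap_of_equivariant hfΩ
  haveI : Flat ((act.bc φ).orbitMap (η[Red.bc φ K] ≫ fΩ)).left := by rw [horb]; infer_instance
  haveI : Surjective ((act.bc φ).orbitMap (η[Red.bc φ K] ≫ fΩ)).left := by rw [horb]; infer_instance
  haveI : IsAffine (Red.bc φ K).left := inferInstanceAs (IsAffine (pullback K.hom φ))
  haveI : LocallyOfFiniteType (Red.bc φ K).hom := inferInstanceAs (LocallyOfFiniteType (pullback.snd K.hom φ))
  haveI : LocallyOfFiniteType (Red.bc φ X).hom := inferInstanceAs (LocallyOfFiniteType (pullback.snd X.hom φ))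
  haveI : IsSeparated (Red.bc φ X).hom := inferInstanceAs (IsSeparated (pullback.snd X.hom φ))
  have hmap : ∀ n : ℕ, (Over.pullback φ).map ((𝟙 K) ^ n) = (𝟙 (Red.bc φ K)) ^ n := by
    intro n
    induction n with
    | zero => rw [pow_zero, pow_zero, Functor.map_one]
    | succ n ih => rw [pow_succ, pow_succ, Functor.map_mul, ih, CategoryTheory.Functor.map_id]
  have hΩ : (𝟙 (Red.bc φ K)) ^ (p ^ N) = 1 := by rw [← hmap, hK, Functor.map_one]
  refine isAffine_of_bc X (isAffine_homogeneous (act.bc φ) (η[Red.bc φ K] ≫ fΩ) p N fun g => ?_)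
  rw [← Category.comp_id g, ← MonObj.comp_pow, hΩ, MonObj.comp_one]

variable {k k' : Type u} [Field k] [Field k'] [Algebra k k'] [Module.Finite k k'] [IsPurelyInseparable k k']

local notation "φ" => Spec.map (CommRingCat.ofHom (algebraMap k k'))

/-- The homogeneous space of a Weil restriction by the image of the comparison map is affine. -/
theorem isAffine_homog {G : Over (Spec (CommRingCat.of k))} [GrpObj G]
    {Gbar : Over (Spec (CommRingCat.of k'))} [GrpObj Gbar] [LocallyOfFiniteType Gbar.hom]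
    {q : Red.bc φ G ⟶ Gbar} [IsMonHom q] [Surjective q.left] [Flat q.left]
    {R : Over (Spec (CommRingCat.of k))} [GrpObj R] {qR : Red.bc φ R ⟶ Gbar} [IsMonHom qR]
    (hR : WeilRes.IsWeilRes φ Gbar R qR)
    {H : Over (Spec (CommRingCat.of k))} [GrpObj H] {j : H ⟶ R} [IsClosedImmersion j.left]
    (p₀ : G ⟶ H) (hc : (Over.pullback φ).map (p₀ ≫ j) ≫ qR = q)
    {Q : Over (Spec (CommRingCat.of k))} {aQ : AlgGrp.Action R Q} {q₀ : 𝟙_ _ ⟶ Q}
    (hQ : ChGrp.IsHomog Scheme.fppfPrecoverage j aQ q₀) : IsAffine Q.left := by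
  haveI : LocallyOfFinitePresentation R.hom :=
    WeilPtsLib.locallyOfFinitePresentation_of_bc Gbar R (fun Y => Equiv.ofBijective _ (hR Y)) fun Y Z h g => by
      show (Over.pullback φ).map (h ≫ g) ≫ qR = _ ≫ (Over.pullback φ).map g ≫ qR
      rw [Functor.map_comp, Category.assoc]
  obtain ⟨hπf, hπs, hQl, hQsep⟩ := homog_props hQ
  let π := aQ.orbitMap q₀
  let c := p₀ ≫ j
  have hjπ : j ≫ π = (1 : H ⟶ R) ≫ π := by
    have h := congrArg (fun t => lift (1 : H ⟶ R) (𝟙 H) ≫ t) hQ.2.1.w
    rw [← Category.assoc, lift_fst, ← Category.assoc, ← Category.assoc, lift_whiskerLeft,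
      Category.id_comp, ← Hom.mul_def, _root_.one_mul] at h
    exact h.symm
  have hcπ : c ≫ π = (1 : G ⟶ R) ≫ π := by
    show (p₀ ≫ j) ≫ π = _
    rw [Category.assoc, hjπ, ← Category.assoc, MonObj.comp_one]
  obtain ⟨hK, hiK⟩ := GrpQuotLib.exists_grpObj_kernel qR
  letI := hK
  let iK := pullback.fst qR η[Gbar]
  haveI : IsMonHom iK := hiK
  have hker : AlgGrp.IsKernel iK qR := by
    have h := IsPullback.of_hasPullback qR η[Gbar]
    rwa [toUnit_unique (pullback.snd qR η[Gbar]) (toUnit _)] at h
  haveI : Mono η[Gbar] := SplitMono.mono ⟨toUnit Gbar, toUnit_unique _ _⟩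
  obtain ⟨D⟩ := exists_data hR hker
  obtain ⟨haff, hci⟩ := D.isAffine
  haveI := haff
  haveI := hci
  haveI : LocallyOfFiniteType (pullback qR η[Gbar]).hom := by
    haveI : IsAffine (specOver k' D.AX).left := inferInstanceAs (IsAffine (Spec (CommRingCat.of D.AX)))
    haveI : LocallyOfFiniteType (specOver k' D.AX).hom :=
      Over.w D.jU ▸ inferInstanceAs (LocallyOfFiniteType (D.jU.left ≫ Gbar.hom))
    haveI := lfp_weil (specOver k' D.AX) D.Ru D.e D.he
    haveI : LocallyOfFiniteType ((WeilPtsLib.bc k k').obj D.Ru).hom :=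
      inferInstanceAs (LocallyOfFiniteType (pullback.snd D.Ru.hom φ))
    rw [← Over.w D.aK]
    infer_instance
  obtain ⟨p, N, hp, hpN⟩ := D.exists_pow_expChar hR hker
  let G' := Red.bc φ G
  let i' : G' ⟶ Red.bc φ R := (Over.pullback φ).map c
  let πk : Red.bc φ R ⟶ Red.bc φ Q := (Over.pullback φ).map π
  have hπe : AlgGrp.Action.IsEquivariant (NonAbH1.trivialAction (Red.bc φ R)) (aQ.bc φ) πk :=
    NonAbH1.bc_trivialAction φ (G := R) ▸ AlgGrp.Action.isEquivariant_bc φ (isEquivariant_orbitMap q₀)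
  let f := iK ≫ πk
  have hfe : AlgGrp.Action.IsEquivariant (NonAbH1.trivialAction (pullback qR η[Gbar])) ((aQ.bc φ).restrict iK) f := by
    refine AlgGrp.Action.hom_ext_lift₂ fun T x y => ?_
    rw [lift_whiskerLeft_assoc, AlgGrp.Action.lift_restrict_act, ← Category.assoc,
      show lift x y ≫ (NonAbH1.trivialAction (pullback qR η[Gbar])).act = x * y from (Hom.mul_def x y).symm,
      ← Category.assoc, MonObj.mul_comp, ← Category.assoc y iK, lift_equivariant hπe]
  let P := pullback qR η[Gbar] ⊗ G'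
  let m : P ⟶ Red.bc φ R := (fst _ _ ≫ iK) * (snd _ _ ≫ i')
  have hiK1 : iK ≫ qR = 1 := by rw [hker.w, Hom.one_def]
  have hm : m ≫ qR = snd _ _ ≫ q := by
    rw [MonObj.mul_comp, Category.assoc, hiK1, MonObj.comp_one, _root_.one_mul, Category.assoc, hc]
  have key : ∀ s : PullbackCone qR q, ∃ l : s.pt ⟶ pullback qR η[Gbar], l ≫ iK = s.fst * (s.snd ≫ i')⁻¹ := fun s =>
    ⟨hker.lift _ (toUnit _) (by
      rw [MonObj.mul_comp, GrpObj.inv_comp, s.condition, Category.assoc, hc, mul_inv_cancel, Hom.one_def]),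
      hker.lift_fst _ _ _⟩
  choose l hl using key
  have hsq : IsPullback m (snd _ _) qR q := by
    refine ⟨⟨hm⟩, ⟨PullbackCone.IsLimit.mk hm (fun s => lift (l s) s.snd) (fun s => ?_) (fun s => lift_snd _ _)
      fun s t h₁ h₂ => ?_⟩⟩
    · rw [MonObj.comp_mul, lift_fst_assoc, lift_snd_assoc, hl, inv_mul_cancel_right]
    · apply CartesianMonoidalCategory.hom_ext
      · rw [lift_fst, ← cancel_mono iK, hl, Category.assoc, ← h₁, MonObj.comp_mul]
        rw [← Category.assoc t (snd _ _) i', h₂, mul_inv_cancel_right]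
      · rw [lift_snd, h₂]
  have hsql := GrpQuotLib.isPullback_left hsq
  haveI : Flat m.left := MorphismProperty.of_isPullback hsql.flip ‹Flat q.left›
  haveI : Surjective m.left := MorphismProperty.of_isPullback hsql.flip ‹Surjective q.left›
  haveI : Flat πk.left := MorphismProperty.of_isPullback (isPullback_bc_map π).flip hπf
  haveI : Surjective πk.left := MorphismProperty.of_isPullback (isPullback_bc_map π).flip hπs
  have hi' : i' ≫ πk = (1 : G' ⟶ Red.bc φ R) ≫ πk := by
    show (Over.pullback φ).map c ≫ (Over.pullback φ).map π = _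
    rw [← Functor.map_comp, hcπ, Functor.map_comp, Functor.map_one]
  have hmf : m ≫ πk = fst _ _ ≫ f := by
    show ((fst _ _ ≫ iK) * (snd _ _ ≫ i')) ≫ πk = fst _ _ ≫ iK ≫ πk
    rw [← lift_equivariant hπe, Category.assoc (snd _ _), hi', ← Category.assoc (snd _ _), MonObj.comp_one,
      lift_equivariant hπe, _root_.mul_one, Category.assoc]
  let pr : P.left ⟶ (pullback qR η[Gbar]).left := (fst (pullback qR η[Gbar]) G').left
  haveI : Flat G'.hom := inferInstance
  haveI : Surjective G'.hom :=
    ⟨fun s => ⟨η[G'].left (IsLocalRing.closedPoint k'), Subsingleton.elim (α := PrimeSpectrum k') _ _⟩⟩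
  haveI : Flat pr := MorphismProperty.pullback_fst (pullback qR η[Gbar]).hom G'.hom ‹Flat G'.hom›
  haveI : Surjective pr := MorphismProperty.pullback_fst (pullback qR η[Gbar]).hom G'.hom ‹Surjective G'.hom›
  have hcomp : m.left ≫ πk.left = pr ≫ f.left := congrArg CommaMorphism.left hmf
  haveI : Flat (pr ≫ f.left) := hcomp ▸ inferInstanceAs (Flat (m.left ≫ πk.left))
  haveI : Surjective (pr ≫ f.left) := hcomp ▸ inferInstanceAs (Surjective (m.left ≫ πk.left))
  haveI : Flat f.left := FlatDescStalk.flat_of_comp pr f.left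
  haveI : Surjective f.left := Surjective.of_comp pr f.left
  haveI : LocallyOfFiniteType (Red.bc φ Q).hom := inferInstanceAs (LocallyOfFiniteType (pullback.snd Q.hom φ))
  haveI : IsSeparated (Red.bc φ Q).hom := inferInstanceAs (IsSeparated (pullback.snd Q.hom φ))
  exact isAffine_of_bc Q (isAffine_homogeneous_field ((aQ.bc φ).restrict iK) f hfe p N hpN)

end HomogPLib
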