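import Groth.Agent.S7975

/-!
# Invariant functions for groups of prime power exponent
-/

set_option autoImplicit false
universe u v

open Matrix

noncomputable section

namespace HomogPLib

variable {Ω : Type u} [Field Ω] {Γ : Type v} [Group Γ] (p : ℕ) [ExpChar Ω p] {N : ℕ}

/-- Right translation of functions. -/
def rho : Representation Ω Γ (Γ → Ω) where
  toFun g :=
    { toFun := fun φ v => φ (v * g)
      map_add' := fun _ _ => rfl
      map_smul' := fun _ _ => rfl }
  map_one' := by ext φ v; simp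
  map_mul' g h := by ext φ v; simp [mul_assoc]

theorem rho_apply (g : Γ) (φ : Γ → Ω) (v : Γ) : rho g φ v = φ (v * g) := rfl

/-- Independent functions are separated by as many points. -/
theorem exists_det_ne_zero {X : Type v} {d : ℕ} (w : Fin d → X → Ω) (hw : LinearIndependent Ω w) :
    ∃ x : Fin d → X, (Matrix.of fun i j => w j (x i)).det ≠ 0 := by
  let r : X → (Fin d → Ω) := fun y j => w j y
  have hspan : Submodule.span Ω (Set.range r) = ⊤ := by
    by_contra h
    obtain ⟨l, hl0, hl⟩ := Submodule.exists_dual_map_eq_bot_of_lt_top (lt_top_iff_ne_top.2 h) inferInstance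
    refine hl0 (LinearMap.pi_ext' fun j => LinearMap.ext_ring ?_)
    have hsum : ∑ j, l (Pi.single j 1) • w j = 0 := by
      funext y
      have hy : l (r y) = 0 := by
        have : l (r y) ∈ (Submodule.span Ω (Set.range r)).map l := ⟨r y, Submodule.subset_span ⟨y, rfl⟩, rfl⟩
        rwa [hl, Submodule.mem_bot] at this
      rw [pi_eq_sum_univ' (r y), map_sum] at hy
      simp only [map_smul, smul_eq_mul] at hy
      simp only [Finset.sum_apply, Pi.smul_apply, smul_eq_mul, Pi.zero_apply]
      rw [← hy]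
      exact Finset.sum_congr rfl fun i _ => mul_comm _ _
    show l (Pi.single j 1) = 0
    exact Fintype.linearIndependent_iff.1 hw (fun j => l (Pi.single j 1)) hsum j
  obtain ⟨κ, a, ha, hsp, hli⟩ := exists_linearIndependent' Ω r
  rw [hspan] at hsp
  let b : Module.Basis κ Ω (Fin d → Ω) := Module.Basis.mk hli hsp.ge
  let e := b.indexEquiv (Pi.basisFun Ω (Fin d))
  refine ⟨a ∘ e.symm, ?_⟩
  have hrow : LinearIndependent Ω (Matrix.of fun i j => w j ((a ∘ e.symm) i) : Matrix (Fin d) (Fin d) Ω).row :=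
    hli.comp e.symm e.symm.injective
  exact ((Matrix.isUnit_iff_isUnit_det _).1 (Matrix.linearIndependent_rows_iff_isUnit.1 hrow)).ne_zero

include p in
/-- A regular function invariant under a subgroup separates a point outside it from the identity. -/
theorem exists_invariant_ne (hpow : ∀ g : Γ, g ^ p ^ N = 1) (Fn : Subalgebra Ω (Γ → Ω))
    (hleft : ∀ φ ∈ Fn, ∀ x : Γ, (fun v => φ (x * v)) ∈ Fn)
    (hfin : ∀ φ ∈ Fn, ∃ W : Submodule Ω (Γ → Ω), FiniteDimensional Ω W ∧ φ ∈ W ∧
      (∀ ψ ∈ W, ψ ∈ Fn) ∧ ∀ g, ∀ ψ ∈ W, rho g ψ ∈ W)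
    (S : Subgroup Γ) {u : Γ} {φ₀ : Γ → Ω} (hφ₀ : φ₀ ∈ Fn) (h0 : ∀ s ∈ S, φ₀ s = 0) (hu : φ₀ u ≠ 0) :
    ∃ F ∈ Fn, (∀ v, ∀ s ∈ S, F (v * s) = F v) ∧ F u ≠ F 1 := by
  classical
  obtain ⟨W, hWf, hφW, hWF, hWst⟩ := hfin φ₀ hφ₀
  let WS : Submodule Ω (Γ → Ω) :=
    { carrier := {ψ | ψ ∈ W ∧ ∀ s ∈ S, ψ s = 0}
      add_mem' := fun {a b} ha hb => ⟨W.add_mem ha.1 hb.1, fun s hs => by simp [ha.2 s hs, hb.2 s hs]⟩
      zero_mem' := ⟨W.zero_mem, fun s _ => rfl⟩
      smul_mem' := fun c a ha => ⟨W.smul_mem c ha.1, fun s hs => by simp [ha.2 s hs]⟩ }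
  haveI : FiniteDimensional Ω WS := Submodule.finiteDimensional_of_le (show WS ≤ W from fun _ h => h.1)
  have hst : ∀ s : S, ∀ ψ ∈ WS, rho (s : Γ) ψ ∈ WS := fun s ψ hψ =>
    ⟨hWst s ψ hψ.1, fun t ht => hψ.2 _ (S.mul_mem ht s.2)⟩
  let b := Module.finBasis Ω WS
  let T : S →* Module.End Ω WS :=
    { toFun := fun s => (rho (s : Γ)).restrict (hst s)
      map_one' := by ext ψ v; simp [rho_apply]
      map_mul' := fun s t => by ext ψ v; simp [rho_apply, mul_assoc] }
  have hdet : ∀ s : S, LinearMap.det (T s) = 1 := fun s => by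
    have h : LinearMap.det (T s) ^ p ^ N = 1 := by
      rw [← map_pow, ← map_pow, show s ^ p ^ N = 1 from Subtype.ext (hpow s), map_one, map_one]
    apply iterateFrobenius_inj Ω p N
    simpa [iterateFrobenius_def] using h
  let d := Module.finrank Ω WS
  let w : Fin d → Γ → Ω := fun j => (b j : Γ → Ω)
  have hwli : LinearIndependent Ω w := b.linearIndependent.map' WS.subtype WS.ker_subtype
  let M : (Fin d → Γ) → Γ → Matrix (Fin d) (Fin d) Ω := fun x v => Matrix.of fun i j => w j (x i * v)
  have hM : ∀ x, (fun v => (M x v).det) ∈ Fn := fun x => by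
    have : (fun v => (M x v).det) = ∑ σ : Equiv.Perm (Fin d),
        ((Equiv.Perm.sign σ : ℤ) : Γ → Ω) * ∏ i, fun v => w i (x (σ i) * v) := by
      funext v
      simp [M, Matrix.det_apply', Finset.sum_apply, Finset.prod_apply]
    rw [this]
    exact sum_mem fun σ _ => mul_mem (intCast_mem _ _) (prod_mem fun i _ => hleft _ (hWF _ (b i).2.1) _)
  have hinv : ∀ x v, ∀ s ∈ S, (M x (v * s)).det = (M x v).det := fun x v s hs => by
    have h : M x (v * s) = M x v * LinearMap.toMatrix b b (T ⟨s, hs⟩) := by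
      ext i j
      rw [Matrix.mul_apply]
      have hj := congrArg (fun z : WS => (z : Γ → Ω) (x i * v)) (b.sum_repr (T ⟨s, hs⟩ (b j)))
      simp only [Submodule.coe_sum, Submodule.coe_smul, Finset.sum_apply, Pi.smul_apply, smul_eq_mul] at hj
      refine Eq.trans ?_ (hj.symm.trans ?_)
      · show w j (x i * (v * s)) = w j (x i * v * s)
        rw [mul_assoc]
      · refine Finset.sum_congr rfl fun l _ => ?_
        rw [LinearMap.toMatrix_apply, mul_comm]
        rfl
    rw [h, Matrix.det_mul, LinearMap.det_toMatrix, hdet, mul_one]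
  by_contra hcon
  have heq : ∀ x, (M x u).det = (M x 1).det := fun x => by
    by_contra hne
    exact hcon ⟨_, hM x, hinv x, hne⟩
  obtain ⟨x₀, hx₀⟩ := exists_det_ne_zero w hwli
  have hM0 : (M x₀ 1).det ≠ 0 := by simpa [M] using hx₀
  let C := (M x₀ 1).adjugate
  let C' := (M x₀ u).adjugate
  have key : ∀ (y : Γ) (i : Fin d), ∑ j, w j (y * u) * C' j i = ∑ j, w j (y * 1) * C j i := fun y i => by
    have hup : ∀ v, M (Function.update x₀ i y) v = (M x₀ v).updateRow i fun j => w j (y * v) := fun v => by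
      ext a c
      by_cases ha : a = i
      · subst ha; simp [M]
      · simp [M, ha]
    have := heq (Function.update x₀ i y)
    rw [hup, hup] at this
    rw [← Matrix.cramer_transpose_apply, ← Matrix.cramer_transpose_apply] at this
    rw [Matrix.cramer_eq_adjugate_mulVec, Matrix.cramer_eq_adjugate_mulVec, ← Matrix.adjugate_transpose,
      ← Matrix.adjugate_transpose, Matrix.mulVec_transpose, Matrix.mulVec_transpose] at this
    exact this
  have hmem : ∀ j, rho u (w j) ∈ WS := fun j => by
    have hz : rho u (w j) = (M x₀ u).det⁻¹ • ∑ i, (M x₀ u) i j • ∑ l, C l i • w l := by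
      funext y
      simp only [Pi.smul_apply, Finset.sum_apply, smul_eq_mul, rho_apply]
      have : ∑ i, (M x₀ u) i j * ∑ l, C l i * w l y = (M x₀ u).det * w j (y * u) := by
        calc ∑ i, (M x₀ u) i j * ∑ l, C l i * w l y = ∑ i, (M x₀ u) i j * ∑ l, w l (y * u) * C' l i := by
              refine Finset.sum_congr rfl fun i _ => congrArg (_ * ·) ?_
              rw [key y i, mul_one]
              exact Finset.sum_congr rfl fun l _ => mul_comm _ _
          _ = ∑ l, w l (y * u) * (C' * M x₀ u) l j := by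
              simp only [Finset.mul_sum, Matrix.mul_apply]
              rw [Finset.sum_comm]
              exact Finset.sum_congr rfl fun l _ => Finset.sum_congr rfl fun i _ => by ring
          _ = (M x₀ u).det * w j (y * u) := by
              rw [Matrix.adjugate_mul, Finset.sum_eq_single j]
              · simp only [Matrix.smul_apply, Matrix.one_apply_eq, smul_eq_mul]
                ring
              · intro l _ hl
                simp [Matrix.one_apply_ne hl]
              · simp
      rw [this, inv_mul_cancel_left₀ (by rw [heq]; exact hM0)]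
    rw [hz]
    exact Submodule.smul_mem _ _ (Submodule.sum_mem _ fun i _ => Submodule.smul_mem _ _
      (Submodule.sum_mem _ fun l _ => Submodule.smul_mem _ _ (b l).2))
  have hall : ∀ ψ : WS, rho u (ψ : Γ → Ω) ∈ WS := fun ψ => by
    rw [← b.sum_repr ψ]
    simp only [Submodule.coe_sum, Submodule.coe_smul, map_sum, map_smul]
    exact Submodule.sum_mem _ fun j _ => Submodule.smul_mem _ _ (hmem j)
  have := (hall ⟨φ₀, hφW, h0⟩).2 1 S.one_mem
  rw [rho_apply, one_mul] at this
  exact hu this

include p in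
/-- A finite-dimensional stable space of functions of a group of prime power exponent contains constants. -/
theorem exists_fixed (hpow : ∀ g : Γ, g ^ p ^ N = 1) (W : Submodule Ω (Γ → Ω)) [FiniteDimensional Ω W]
    [Nontrivial W] (hW : ∀ g, ∀ ψ ∈ W, rho g ψ ∈ W) : ∃ ψ ∈ W, ψ 1 ≠ 0 ∧ ∀ g, ψ g = ψ 1 := by
  let T : Representation Ω Γ W :=
    { toFun := fun g => (rho g).restrict (hW g)
      map_one' := by ext ψ v; simp [rho_apply]
      map_mul' := fun g h => by ext ψ v; simp [rho_apply, mul_assoc] }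
  haveI : ExpChar (Module.End Ω W) p := expChar_of_injective_algebraMap (algebraMap Ω _).injective p
  obtain ⟨v, hv0, hv⟩ := Groth.Agent.S7975.result Ω Γ W T fun g => ⟨p ^ N, by
    refine (sub_pow_expChar_pow_of_commute (R := Module.End Ω W) _ _ (Commute.one_right (T g))).trans ?_
    rw [one_pow, ← map_pow, hpow, map_one, sub_self]⟩
  have hc : ∀ g, (v : Γ → Ω) g = (v : Γ → Ω) 1 := fun g => by
    have := congrArg (fun z : W => (z : Γ → Ω) 1) (hv g)
    simpa [T, rho_apply] using this
  exact ⟨v, v.2, fun h1 => hv0 (Subtype.ext (funext fun g => (hc g).trans h1)), hc⟩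

end HomogPLib
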